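import Cfsg.Agent.BlocksRational.TwistTrace
import Cfsg.Agent.BlocksLocal.LocalConjugacy
import Cfsg.Agent.BlockPairing.MajorSubsection
import Cfsg.Agent.BlockPairing.DefectOne
import Cfsg.Agent.BlocksCharsC.RegularSupport

/-!
# Characters of a block fixed by a Galois automorphism fixing the p-regular roots of unity

For `k` prime to the order of the group with `g ^ k = g` at the p-regular `g`, the number of
members `χ` of a block with `χ (g ^ k) = χ g` for all `g` is at least the p-regular rank of the
block: on the section of a p-element conjugate to its `k`-th power the automorphism permutes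
projective indecomposable characters, and on the other sections it has trace zero.
-/

set_option autoImplicit false
set_option linter.unusedSectionVars false
set_option linter.style.haveILetI false
set_option maxHeartbeats 1000000

namespace CfsgLib.BlocksRational

open Cfsg CfsgLib.Blocks CfsgLib.BlockPairing
open scoped ComplexConjugate

universe u

variable {G : Type u} [Group G] [Fintype G] {M : Ideal AlgInt} [M.IsPrime] {p : ℕ} [Fact p.Prime]

open Classical in
/-- Products of two values of a block on one p-section. -/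
theorem sum_section_pair (hM : Cfsg.IsPModular p M) {x : G} (hx : ∃ k, orderOf x = p ^ k)
    [Fintype (Subgroup.centralizer ({x} : Set G))] {B : Set (IrrCharacter G)}
    (hB : Cfsg.IsPBlock M B) {y z : Subgroup.centralizer ({x} : Set G)} (hy : ¬ p ∣ orderOf y)
    (hz : ¬ p ∣ orderOf z) :
    ∑ χ : IrrCharacter G, (if χ ∈ B then (χ : G → ℂ) (x * (z : G)) *
        conj ((χ : G → ℂ) (x * (y : G))) else 0) =
      ∑ ξ : IrrCharacter (Subgroup.centralizer ({x} : Set G)),
        if ξ ∈ overSet M _ B (isBlockUnion_of_isPBlock hB) then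
          (ξ : _ → ℂ) z * conj ((ξ : _ → ℂ) y) else 0 := by
  let H := Subgroup.centralizer ({x} : Set G)
  set A := overSet M H B (isBlockUnion_of_isPBlock hB)
  have hA : IsBlockUnion M A := isBlockUnion_overSet H _
  let f : IrrCharacter G → H → ℂ := fun χ c => (χ : G → ℂ) (x * (c : G))
  have hval : ∀ χ : IrrCharacter G, (if χ ∈ B then (χ : G → ℂ) (x * (z : G)) else 0) =
      ∑ ξ : IrrCharacter H, if ξ ∈ A then regInner p (f χ) ξ * (ξ : H → ℂ) z else 0 := by
    intro χ
    rw [sum_union_regInner_mul hM hA
      (isClassFunction_translate _ (Characters.isClassFunction_of_isIrr χ.2) x) hz,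
      ← blockPart_overSet hM hx hB χ hz, Cfsg.blockPart, finsum_irr_mem,
      show (Fintype.ofFinite H) = ‹Fintype H› from Subsingleton.elim _ _]
  have hkey : ∀ h : H, ¬ p ∣ orderOf h →
      ∑ χ : IrrCharacter G, (χ : G → ℂ) (x * (h : G)) * conj ((χ : G → ℂ) (x * (y : G))) =
        ∑ η : IrrCharacter H, (η : H → ℂ) h * conj ((η : H → ℂ) y) := by
    intro h hh
    have hcx : ∀ c : H, Commute x (c : G) := fun c =>
      (Subgroup.mem_centralizer_singleton_iff.1 c.2).symm
    by_cases hc : IsConj h y
    · obtain ⟨c, rfl⟩ := isConj_iff.1 hc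
      have hG : IsConj (x * (h : G)) (x * ((c * h * c⁻¹ : H) : G)) := by
        refine isConj_iff.2 ⟨(c : G), ?_⟩
        push_cast
        rw [← mul_assoc (c : G) x, (hcx c).eq.symm]
        group
      rw [Characters.sum_irr_mul_conj_of_isConj hG, Characters.sum_irr_mul_conj_of_isConj hc]
      congr 1
      refine Nat.card_congr ⟨fun g => ⟨⟨g.1, ?_⟩, ?_⟩, fun g => ⟨(g.1 : G), ?_⟩,
        fun g => rfl, fun g => rfl⟩
      · have hg := Subgroup.mem_centralizer_singleton_iff.1 g.2
        have h1 := isPPart_conj (isPPart_of_mul (hcx h) hx (by rwa [Subgroup.orderOf_coe])) (g.1 : G)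
        rw [hg, mul_inv_cancel_right] at h1
        have h2 := isPPart_unique (Fact.out : p.Prime) h1
          (isPPart_of_mul (hcx h) hx (by rwa [Subgroup.orderOf_coe]))
        exact Subgroup.mem_centralizer_singleton_iff.2 (mul_inv_eq_iff_eq_mul.1 h2)
      · refine Subgroup.mem_centralizer_singleton_iff.2 (Subtype.ext ?_)
        have hg := Subgroup.mem_centralizer_singleton_iff.1 g.2
        have hgx : (g.1 : G) * x = x * g.1 := by
          have h1 := isPPart_conj (isPPart_of_mul (hcx h) hx (by rwa [Subgroup.orderOf_coe])) (g.1 : G)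
          rw [hg, mul_inv_cancel_right] at h1
          have h2 := isPPart_unique (Fact.out : p.Prime) h1
            (isPPart_of_mul (hcx h) hx (by rwa [Subgroup.orderOf_coe]))
          exact mul_inv_eq_iff_eq_mul.1 h2
        rw [← mul_assoc, hgx, mul_assoc, mul_assoc] at hg
        exact mul_left_cancel hg
      · refine Subgroup.mem_centralizer_singleton_iff.2 ?_
        have hg := congrArg Subtype.val (Subgroup.mem_centralizer_singleton_iff.1 g.2)
        push_cast at hg
        rw [← mul_assoc, (hcx g.1).eq.symm, mul_assoc, hg, ← mul_assoc]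
    · rw [Characters.sum_irr_mul_conj_of_not_isConj hc,
        Characters.sum_irr_mul_conj_of_not_isConj]
      intro hcj
      obtain ⟨c, hc'⟩ := isConj_iff.1 hcj
      have h1 := isPPart_conj (isPPart_of_mul (hcx h) hx (by rwa [Subgroup.orderOf_coe])) c
      rw [hc'] at h1
      have h2 := isPPart_unique (Fact.out : p.Prime) h1
        (isPPart_of_mul (hcx y) hx (by rwa [Subgroup.orderOf_coe]))
      have hcm : c ∈ H := Subgroup.mem_centralizer_singleton_iff.2 (mul_inv_eq_iff_eq_mul.1 h2)
      refine hc (isConj_iff.2 ⟨⟨c, hcm⟩, Subtype.ext ?_⟩)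
      push_cast
      have h3 : x * (c * (h : G) * c⁻¹) = x * (y : G) := by
        rw [← hc']
        conv_lhs => arg 1; rw [← h2]
        group
      exact mul_left_cancel h3
  calc ∑ χ : IrrCharacter G, (if χ ∈ B then (χ : G → ℂ) (x * (z : G)) *
        conj ((χ : G → ℂ) (x * (y : G))) else 0)
      = ∑ χ : IrrCharacter G, ∑ ξ : IrrCharacter H, (if ξ ∈ A then
          regInner p (f χ) ξ * conj ((χ : G → ℂ) (x * (y : G))) * (ξ : H → ℂ) z else 0) := by
        refine Finset.sum_congr rfl fun χ _ => ?_
        rw [← mul_one (ite _ _ _), show (if χ ∈ B then (χ : G → ℂ) (x * (z : G)) *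
          conj ((χ : G → ℂ) (x * (y : G))) else 0) * 1 = (if χ ∈ B then (χ : G → ℂ) (x * (z : G))
          else 0) * conj ((χ : G → ℂ) (x * (y : G))) by split_ifs <;> ring, hval, Finset.sum_mul]
        exact Finset.sum_congr rfl fun ξ _ => by split_ifs <;> ring
    _ = ∑ ξ : IrrCharacter H, if ξ ∈ A then (ξ : H → ℂ) z * conj ((ξ : H → ℂ) y) else 0 := by
        rw [Finset.sum_comm]
        refine Finset.sum_congr rfl fun ξ _ => ?_
        split_ifs with hξ
        · rw [← Finset.sum_mul, mul_comm ((ξ : H → ℂ) z)]
          congr 1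
          -- the coefficient collapses to the class of `y`
          set δ : H → ℂ := fun h => ∑ η : IrrCharacter H, (η : H → ℂ) h * conj ((η : H → ℂ) y)
          have hδ : ∀ h : H, p ∣ orderOf h → δ h = 0 := fun h hh =>
            Characters.sum_irr_mul_conj_of_not_isConj fun hc =>
              not_isConj_of_regular_singular hy hh hc.symm
          simp only [regInner, Finset.mul_sum, Finset.sum_mul]
          rw [Finset.sum_comm]
          have hcl : ∀ η : IrrCharacter H, Cfsg.classInner (η : H → ℂ) (ξ : H → ℂ) =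
              if η = ξ then 1 else 0 := fun η => Characters.classInner_irr η ξ
          have : Cfsg.classInner δ (ξ : H → ℂ) = conj ((ξ : H → ℂ) y) := by
            rw [show δ = ∑ η : IrrCharacter H, conj ((η : H → ℂ) y) • (η : H → ℂ) from
              funext fun h => by simp [δ, mul_comm]]
            exact Characters.classInner_irr_coeff _ ξ
          rw [← this, Cfsg.classInner, Finset.mul_sum]
          refine Finset.sum_congr rfl fun h _ => ?_
          by_cases hh : p ∣ orderOf h
          · simp [hδ h hh, hh]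
          · simp only [hh, if_false, f, δ]
            rw [← hkey h hh, Finset.sum_mul, Finset.mul_sum]
            exact Finset.sum_congr rfl fun χ _ => by ring
        · simp

open Classical in
/-- Values of a block on different p-sections are orthogonal. -/
theorem sum_section_eq_zero (hM : Cfsg.IsPModular p M) {x : G} (hx : ∃ k, orderOf x = p ^ k)
    [Fintype (Subgroup.centralizer ({x} : Set G))] {B : Set (IrrCharacter G)}
    (hB : Cfsg.IsPBlock M B) {y : Subgroup.centralizer ({x} : Set G)} (hy : ¬ p ∣ orderOf y)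
    {g : G} (hg : ∀ h : Subgroup.centralizer ({x} : Set G), ¬ p ∣ orderOf h →
      ¬ IsConj g (x * (h : G))) :
    ∑ χ : IrrCharacter G, (if χ ∈ B then (χ : G → ℂ) g * conj ((χ : G → ℂ) (x * (y : G))) else 0) =
      0 := by
  let H := Subgroup.centralizer ({x} : Set G)
  set A := overSet M H B (isBlockUnion_of_isPBlock hB)
  have hA : IsBlockUnion M A := isBlockUnion_overSet H _
  let f : IrrCharacter G → H → ℂ := fun χ c => (χ : G → ℂ) (x * (c : G))
  have hval : ∀ χ : IrrCharacter G, (if χ ∈ B then (χ : G → ℂ) (x * (y : G)) else 0) =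
      ∑ ξ : IrrCharacter H, if ξ ∈ A then regInner p (f χ) ξ * (ξ : H → ℂ) y else 0 := by
    intro χ
    rw [sum_union_regInner_mul hM hA
      (isClassFunction_translate _ (Characters.isClassFunction_of_isIrr χ.2) x) hy,
      ← blockPart_overSet hM hx hB χ hy, Cfsg.blockPart, finsum_irr_mem,
      show (Fintype.ofFinite H) = ‹Fintype H› from Subsingleton.elim _ _]
  rw [Finset.sum_congr rfl (g := fun χ : IrrCharacter G => (χ : G → ℂ) g *
    conj (∑ ξ : IrrCharacter H, if ξ ∈ A then regInner p (f χ) ξ * (ξ : H → ℂ) y else 0))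
    (fun χ _ => by rw [← hval]; split_ifs <;> simp)]
  simp only [map_sum, Finset.mul_sum]
  rw [Finset.sum_comm]
  refine Finset.sum_eq_zero fun ξ _ => ?_
  by_cases hξ : ξ ∈ A
  · simp only [if_pos hξ, map_mul, ← mul_assoc, ← Finset.sum_mul]
    refine mul_eq_zero_of_left ?_ _
    simp only [regInner, map_mul, map_sum, Finset.mul_sum]
    rw [Finset.sum_comm]
    refine Finset.sum_eq_zero fun h _ => ?_
    by_cases hh : p ∣ orderOf h
    · simp [hh]
    · simp only [if_neg hh, map_mul, f]
      rw [Finset.sum_congr rfl (g := fun χ : IrrCharacter G =>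
        conj ((Nat.card H : ℂ)⁻¹) * conj (conj ((ξ : H → ℂ) h)) *
          ((χ : G → ℂ) g * conj ((χ : G → ℂ) (x * (h : G))))) (fun χ _ => by ring),
        ← Finset.mul_sum, Characters.sum_irr_mul_conj_of_not_isConj (hg h hh), mul_zero]
  · simp [hξ]

open Classical in
/-- **The bound.** -/
theorem blockRank_le_card_fixed (hM : Cfsg.IsPModular p M) {B : Set (IrrCharacter G)}
    (hB : Cfsg.IsPBlock M B) (k : ℕ) (hk : Nat.Coprime k (Nat.card G))
    (hreg : ∀ g : G, ¬ p ∣ orderOf g → g ^ k = g) :
    Cfsg.blockRank p B ≤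
      Nat.card {χ : IrrCharacter G // χ ∈ B ∧ ∀ g : G, (χ : G → ℂ) (g ^ k) = (χ : G → ℂ) g} := by
  have hpp : p.Prime := Fact.out
  have hBu := isBlockUnion_of_isPBlock hB
  -- the automorphism preserves the block
  have hmem : ∀ χ ∈ B, BlocksCharsC.powIrr k hk χ ∈ B := by
    intro χ hχ
    by_contra h
    have h0 := CfsgLib.MajorSubsection.regInner_eq_zero_of_not_mem hM hB h hχ
    have he : regInner p (BlocksCharsC.powIrr k hk χ : G → ℂ) χ = regInner p (χ : G → ℂ) χ := by
      simp only [regInner]
      congr 1
      refine Finset.sum_congr rfl fun g _ => ?_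
      split_ifs with hg
      · rfl
      · show (χ : G → ℂ) (g ^ k) * _ = _
        rw [hreg g hg]
    rw [he, regInner_self_eq] at h0
    have h1 := congrArg Complex.re ((mul_eq_zero.1 h0).resolve_left
      (inv_ne_zero Characters.natCard_ne_zero))
    rw [Complex.re_sum, Complex.zero_re] at h1
    have h2 := (Finset.sum_eq_zero_iff_of_nonneg fun g _ => ?_).1 h1 1 (Finset.mem_univ _)
    · rw [if_neg (by rw [orderOf_one]; exact hpp.not_dvd_one), Complex.mul_conj,
        Complex.ofReal_re] at h2
      exact Characters.irr_one_ne_zero χ.2 (Complex.normSq_eq_zero.1 h2)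
    · split_ifs
      · simp
      · rw [Complex.mul_conj, Complex.ofReal_re]; exact Complex.normSq_nonneg _
  set F : G → ℂ := fun g => ∑ χ : IrrCharacter G,
    if χ ∈ B then (χ : G → ℂ) (g ^ k) * conj ((χ : G → ℂ) g) else 0 with hF
  set N := Nat.card {χ : IrrCharacter G // χ ∈ B ∧ ∀ g : G, (χ : G → ℂ) (g ^ k) = (χ : G → ℂ) g}
    with hN
  have hcount : (N : ℂ) * Nat.card G = ∑ g, F g := by
    simp only [F]
    rw [Finset.sum_comm, hN, Nat.card_eq_fintype_card, Fintype.card_subtype,
      Finset.natCast_card_filter, Finset.sum_mul]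
    refine Finset.sum_congr rfl fun χ _ => ?_
    by_cases hχ : χ ∈ B
    · simp only [if_pos hχ, hχ, true_and]
      have h := Characters.classInner_irr (BlocksCharsC.powIrr k hk χ) χ
      rw [Cfsg.classInner, inv_mul_eq_iff_eq_mul₀ Characters.natCard_ne_zero] at h
      refine Eq.trans ?_ h.symm
      rw [mul_comm]
      congr 1
      by_cases he : BlocksCharsC.powIrr k hk χ = χ
      · rw [if_pos he, if_pos (show ∀ g : G, (χ : G → ℂ) (g ^ k) = (χ : G → ℂ) g from
          fun g => congrFun (congrArg Subtype.val he) g)]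
      · rw [if_neg he, if_neg fun h' : ∀ g : G, (χ : G → ℂ) (g ^ k) = (χ : G → ℂ) g =>
          he (Subtype.ext (funext h'))]
    · simp [hχ]
  choose pp hpp' using fun g : G => exists_isPPart (p := p) hpp g
  set S : G → ℂ := fun z => ∑ g ∈ Finset.univ.filter (fun g => pp g = z), F g with hS
  -- the regular section
  have hS1 : S 1 = (Nat.card G : ℂ) * (Cfsg.blockRank p B : ℂ) := by
    rw [BlockPairing.blockRank_eq_sum hM hBu, Finset.mul_sum]
    simp only [S, F]
    rw [Finset.sum_comm]
    refine Finset.sum_congr rfl fun χ _ => ?_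
    by_cases hχ : χ ∈ B
    · simp only [if_pos hχ, regInner, ← mul_assoc, mul_inv_cancel₀ Characters.natCard_ne_zero,
        one_mul]
      rw [Finset.sum_filter]
      refine Finset.sum_congr rfl fun g _ => ?_
      by_cases hg : p ∣ orderOf g
      · rw [if_neg fun h => ?_, if_pos hg]
        obtain ⟨y, hy1, -, -, hy⟩ := hpp' g
        rw [h, one_mul] at hy1
        exact hy (hy1 ▸ hg)
      · rw [if_pos ?_, if_neg hg, hreg g hg]
        refine isPPart_unique hpp (hpp' g) ?_
        have := isPPart_of_mul (p := p) (Commute.one_left g) ⟨0, by simp⟩ hg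
        rwa [one_mul] at this
    · simp [hχ]
  -- the other sections
  have hSx : ∀ x : G, ∃ m : ℕ, S x = m := by
    intro x
    by_cases hx : ∃ j, orderOf x = p ^ j
    swap
    · refine ⟨0, ?_⟩
      rw [Nat.cast_zero]
      refine Finset.sum_eq_zero fun g hg => absurd ?_ hx
      obtain ⟨y, -, -, hj, -⟩ := hpp' g
      rwa [(Finset.mem_filter.1 hg).2] at hj
    let H := Subgroup.centralizer ({x} : Set G)
    haveI : Fintype H := Fintype.ofFinite H
    have hcx : ∀ c : H, Commute x (c : G) := fun c =>
      (Subgroup.mem_centralizer_singleton_iff.1 c.2).symm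
    have hsum : S x = ∑ y : H, if p ∣ orderOf y then 0 else F (x * (y : G)) := by
      have hite : ∀ y : H, (if p ∣ orderOf y then 0 else F (x * (y : G))) =
          if ¬ p ∣ orderOf y then F (x * (y : G)) else 0 := fun y => by split_ifs <;> rfl
      simp only [hite, ← Finset.sum_filter]
      refine (Finset.sum_bij (fun (y : H) _ => x * (y : G)) (fun y hy => ?_) (fun y _ y' _ h =>
        Subtype.ext (mul_left_cancel h)) (fun g hg => ?_) (fun y _ => rfl)).symm
      · refine Finset.mem_filter.2 ⟨Finset.mem_univ _, isPPart_unique hpp (hpp' _)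
          (isPPart_of_mul (hcx y) hx ?_)⟩
        rw [Subgroup.orderOf_coe]
        exact (Finset.mem_filter.1 hy).2
      · obtain ⟨y, hxy, hc, -, hy⟩ := hpp' g
        rw [(Finset.mem_filter.1 hg).2] at hxy hc
        exact ⟨⟨y, Subgroup.mem_centralizer_singleton_iff.2 hc.eq.symm⟩,
          Finset.mem_filter.2 ⟨Finset.mem_univ _, by rwa [← Subgroup.orderOf_coe]⟩, hxy⟩
    have hpow : ∀ y : H, ¬ p ∣ orderOf y → (x * (y : G)) ^ k = x ^ k * (y : G) := fun y hy => by
      rw [(hcx y).mul_pow, hreg (y : G) (by rwa [Subgroup.orderOf_coe])]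
    by_cases hc : IsConj x (x ^ k)
    · obtain ⟨c, hc'⟩ := isConj_iff.1 hc
      have hcent := BlocksCharsC.centralizer_pow_of_coprime k hk x
      have hHmem : ∀ y : G, y ∈ H ↔ c⁻¹ * y * c ∈ H := fun y => by
        show y ∈ Subgroup.centralizer ({x} : Set G) ↔ _
        conv_lhs => rw [← hcent, ← hc']
        simp only [H, Subgroup.mem_centralizer_singleton_iff]
        constructor
        · intro h
          calc c⁻¹ * y * c * x = c⁻¹ * (y * (c * x * c⁻¹)) * c := by group
            _ = x * (c⁻¹ * y * c) := by rw [h]; group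
        · intro h
          calc y * (c * x * c⁻¹) = c * (c⁻¹ * y * c * x) * c⁻¹ := by group
            _ = c * x * c⁻¹ * y := by rw [h]; group
      let α : H ≃* H :=
        { toFun := fun y => ⟨c⁻¹ * y * c, (hHmem y).1 y.2⟩
          invFun := fun y => ⟨c * y * c⁻¹, (hHmem _).2 (by
            rw [show c⁻¹ * (c * (y : G) * c⁻¹) * c = (y : G) by group]; exact y.2)⟩
          left_inv := fun y => Subtype.ext (show c * (c⁻¹ * (y : G) * c) * c⁻¹ = y by group)
          right_inv := fun y => Subtype.ext (show c⁻¹ * (c * (y : G) * c⁻¹) * c = y by group)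
          map_mul' := fun y y' => Subtype.ext (show c⁻¹ * ((y : G) * y') * c =
            c⁻¹ * (y : G) * c * (c⁻¹ * (y' : G) * c) by group) }
      set A := overSet M H B hBu
      have hAα : ∀ ξ ∈ A, BlockPairs.irrComp α ξ ∈ A := by
        intro ξ hξ
        show omegaBar M (BlockPairs.irrComp α ξ) (resCtr H (idemBar M B hBu)) ≠ 0
        rw [BlocksLocal.omegaBar_irrComp α ξ (resCtr H (idemBar M B hBu))]
        · exact hξ
        · intro y
          rw [coeff_resCtr, coeff_resCtr,
            show ((α y : H) : G) = c⁻¹ * (y : G) * c⁻¹⁻¹ by rw [inv_inv]; rfl,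
            coeff_conj_of_mem_ctr (idemBar M B hBu).2]
      obtain ⟨m, hm⟩ := exists_nat_twist hM (isBlockUnion_overSet H hBu) α hAα
      refine ⟨Nat.card H * m, ?_⟩
      rw [Nat.cast_mul, ← hm, hsum, Finset.mul_sum]
      have hstep : ∀ y : H, (if p ∣ orderOf y then 0 else F (x * (y : G))) =
          ∑ ξ : IrrCharacter H, if ξ ∈ A then
            (if p ∣ orderOf y then 0 else (ξ : H → ℂ) (α y) * conj ((ξ : H → ℂ) y)) else 0 := by
        intro y
        by_cases hy : p ∣ orderOf y
        · simp [hy]
        · simp only [if_neg hy, F]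
          rw [← sum_section_pair hM hx hB hy (z := α y) (by rwa [α.orderOf_eq])]
          refine Finset.sum_congr rfl fun χ _ => ?_
          rw [hpow y hy, ← hc']
          congr 2
          rw [show c * x * c⁻¹ * (y : G) = c * (x * ((α y : H) : G)) * c⁻¹ by
            show _ = c * (x * (c⁻¹ * (y : G) * c)) * c⁻¹
            group]
          exact Characters.isClassFunction_of_isIrr χ.2 _ _
      simp only [hstep]
      rw [Finset.sum_comm]
      refine Finset.sum_congr rfl fun ξ _ => ?_
      split_ifs with hξ
      · rw [regInner, ← mul_assoc, mul_inv_cancel₀ Characters.natCard_ne_zero, one_mul]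
      · simp
    · refine ⟨0, ?_⟩
      rw [Nat.cast_zero, hsum]
      refine Finset.sum_eq_zero fun y _ => ?_
      split_ifs with hy
      · rfl
      · simp only [F, hpow y hy]
        refine sum_section_eq_zero hM hx hB hy fun h hh hcj => hc ?_
        obtain ⟨d, hd⟩ := isConj_iff.1 hcj
        have hxk : ∃ j, orderOf (x ^ k) = p ^ j := by
          obtain ⟨j, hj⟩ := hx
          exact ⟨j, by rw [Nat.Coprime.orderOf_pow (hj ▸ ((hk.coprime_dvd_right
            (orderOf_dvd_natCard x)).symm)), hj]⟩
        have h1 := isPPart_conj (isPPart_of_mul (p := p) ((hcx y).pow_left k) hxk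
          (by rwa [Subgroup.orderOf_coe])) d
        rw [hd] at h1
        have h2 := isPPart_unique hpp h1 (isPPart_of_mul (hcx h) hx (by rwa [Subgroup.orderOf_coe]))
        exact (isConj_iff.2 ⟨d, h2⟩ : IsConj (x ^ k) x).symm
  choose m hm using hSx
  have htot : ∑ g, F g = S 1 + ((∑ x ∈ Finset.univ.erase (1 : G), m x : ℕ) : ℂ) := by
    rw [← Finset.sum_fiberwise Finset.univ pp F, ← Finset.add_sum_erase Finset.univ _
      (Finset.mem_univ (1 : G)), Nat.cast_sum]
    congr 1
    exact Finset.sum_congr rfl fun x _ => hm x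
  rw [hS1, ← hcount] at htot
  have : N * Nat.card G = Nat.card G * Cfsg.blockRank p B + ∑ x ∈ Finset.univ.erase (1 : G), m x := by
    exact_mod_cast htot
  refine Nat.le_of_mul_le_mul_right ?_ (Nat.card_pos : 0 < Nat.card G)
  rw [this, mul_comm]
  exact Nat.le_add_right _ _

end CfsgLib.BlocksRational
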