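import Cfsg.Agent.BlocksRational.TwistTrace
import Cfsg.Agent.Characters.Monomial
import Cfsg.Agent.BlockPairing.RegularInner
import Cfsg.Agent.BlockPairs.RegularSpan
import Cfsg.Agent.Blocks.PPart

/-!
# Surjectivity of the decomposition map on the classes of primitive idempotents

The dual basis of the classes of primitive idempotents below the idempotent of a union of blocks
extends, through the p'-part, to generalized characters: on a p'-subgroup the multiplicities are
traces of idempotents, hence integers, and Brauer's characterisation applies.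
-/

set_option autoImplicit false
set_option linter.unusedSectionVars false
set_option linter.style.haveILetI false
set_option maxHeartbeats 1000000

namespace CfsgLib.BlocksRational

open Cfsg MonoidAlgebra CfsgLib.Star CfsgLib.BlockPairing
open CfsgLib.BlockPairs (GA)
open CfsgLib.Blocks (localRing red Res IsBlockUnion)
open scoped ComplexConjugate

universe u

variable {M : Ideal AlgInt} [M.IsPrime] {H : Type u} [Group H] [Fintype H]
variable {p : ℕ} [Fact p.Prime] {U : Set (IrrCharacter H)} (hU : IsBlockUnion M U)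

local notation "⊤ₐ" => (⊤ : Subalgebra (Res M) (GA (Res M) H))

/-- The trace of an irreducible character at an idempotent is a natural number. -/
theorem exists_nat_T (η : IrrCharacter H) {j : GA (Res M) H} (hj : j * j = j) :
    ∃ n : ℕ, T M (η : H → ℂ) 1 j = n := by
  obtain ⟨E, hE, hEz⟩ := exists_lift (M := M) j hj
  rw [T_eq_sum (Characters.isClassFunction_of_isIrr η.2) hE
    (hEz 1 (CfsgLib.BlockPairs.conjA_one_left j)).2]
  obtain ⟨n, hn⟩ := CfsgLib.Blocks.evalFun_idem_eq_nat (Characters.isCharacter_of_isIrr η.2)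
    (e := MonoidAlgebra.mapRingHom H (localRing M).subtype E) (by rw [← map_mul, hE])
  exact ⟨n, by rw [← hn, CfsgLib.Blocks.evalFun]; simp⟩

/-- The classes of primitive idempotents below `U` and their dual class functions. -/
theorem exists_dual (hM : Cfsg.IsPModular p M) :
    ∃ (s : Finset (GA (Res M) H)), IsDecomp ⊤ₐ (rho M H (idemU M hU)) s ∧
      ∃ (ι : Type u) (_ : Fintype ι) (cl : {a // a ∈ s} → ι) (F : ι → H → ℂ),
        Function.Surjective cl ∧ (∀ i, Cfsg.IsClassFunction H (F i)) ∧
        (∀ (a : {a // a ∈ s}) (i : ι) [DecidableEq ι],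
          T M (F i) 1 (a : GA (Res M) H) = if cl a = i then 1 else 0) ∧
        (∀ b, Prim ⊤ₐ b → rho M H (idemU M hU) * b = b → ∃ a ∈ s,
          ∀ f : H → ℂ, Cfsg.IsClassFunction H f → T M f 1 b = T M f 1 a) ∧
        (∀ η ∈ U, ∃ c : ι → ℂ, ∀ y, ¬ p ∣ orderOf y →
          (η : H → ℂ) y = ∑ i, c i * proj U (F i) y) := by
  classical
  haveI := CfsgLib.BlockPairs.isAlgClosed_res hM
  set eU := rho M H (idemU M hU) with heU
  have heUU : eU * eU = eU := by rw [heU, ← map_mul, idemU_mul_self]
  have hcU : ∀ a, eU * a = a * eU := fun a => by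
    obtain ⟨A, rfl⟩ := rho_surjective a
    rw [heU, ← map_mul, ← map_mul, (idemU_comm hU A).eq]
  obtain ⟨s, hs⟩ := exists_decomp (A := ⊤ₐ) trivial heUU
  set cls := s.image (part ⊤ₐ s) with hcls
  have hrep : ∀ i : cls, ∃ a, a ∈ s ∧ part ⊤ₐ s a = (i : Finset _) := fun i => by
    obtain ⟨a, ha, he⟩ := Finset.mem_image.1 i.2
    exact ⟨a, ha, he⟩
  choose rep hrs hrp using hrep
  let cl : {a // a ∈ s} → cls := fun a => ⟨part ⊤ₐ s a.1, Finset.mem_image_of_mem _ a.2⟩
  have hTeq : ∀ b b', Prim ⊤ₐ b → Prim ⊤ₐ b' → Eqv ⊤ₐ b b' → ∀ f : H → ℂ,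
      Cfsg.IsClassFunction H f → T M f 1 b = T M f 1 b' := by
    intro b b' hb hb' he f hf
    obtain ⟨x, -, y, -, hxy, hyx⟩ := he
    exact T_equiv hf hb.2.1 hb'.2.1 hxy hyx
      (CfsgLib.BlockPairs.conjA_one_left x) (CfsgLib.BlockPairs.conjA_one_left y)
  have hclrep : ∀ (a : {a // a ∈ s}) (f : H → ℂ), Cfsg.IsClassFunction H f →
      T M f 1 (a : GA (Res M) H) = T M f 1 (rep (cl a)) := fun a f hf =>
    (hTeq (rep (cl a)) a (hs.1 _ (hrs _)) (hs.1 _ a.2)
      (mem_part.1 (show (a : GA (Res M) H) ∈ part ⊤ₐ s (rep (cl a)) by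
        rw [hrp]; exact mem_part.2 ⟨a.2, Eqv.refl (hs.1 _ a.2)⟩)).2 f hf).symm
  have hclass : ∀ b, Prim ⊤ₐ b → eU * b = b → ∃ a ∈ s,
      ∀ f : H → ℂ, Cfsg.IsClassFunction H f → T M f 1 b = T M f 1 a := by
    intro b hb hbU
    obtain ⟨a, ha, hba⟩ := exists_eqv_mem hs hb hbU
    exact ⟨a, ha, hTeq b a hb (hs.1 a ha) hba⟩
  -- test functions
  have hphi : ∀ i : cls, ∃ φ : GA (Res M) H →ₗ[Res M] Res M,
      (∀ x y, φ (x * y) = φ (y * x)) ∧ φ (rep i) = 1 ∧ ∀ l, l ≠ i → φ (rep l) = 0 := by
    intro i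
    obtain ⟨φ, h1, -, h3, h4⟩ := CfsgLib.BlocksLocal.exists_trace hcU hs (hrs i)
    refine ⟨φ, h1, h3, fun l hl => h4 _ (hrs l) fun he => hl (Subtype.ext ?_)⟩
    rw [← hrp l, ← hrp i, part_congr hs (hs.1 _ (hrs i)).2.1 (hs.1 _ (hrs l)).2.1 he]
  choose φ hφc hφ1 hφ0 using hphi
  choose sec hsec using CfsgLib.Blocks.red_surjective (M := M)
  choose E hE hEz using fun i => exists_lift (M := M) (rep i) (hs.1 _ (hrs i)).2.1
  have hEr : ∀ i, rho M H (E i) = rep i := fun i =>
    (hEz i 1 (CfsgLib.BlockPairs.conjA_one_left _)).2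
  let fO : cls → H → localRing M := fun l g => sec (φ l (single g 1))
  let f : cls → H → ℂ := fun l g => (fO l g : ℂ)
  have hfc : ∀ l, Cfsg.IsClassFunction H (f l) := by
    intro l g h
    show ((sec (φ l (single (h * g * h⁻¹) 1)) : localRing M) : ℂ) = (sec (φ l (single g 1)) : ℂ)
    rw [show single (h * g * h⁻¹) (1 : Res M) = single h 1 * single g 1 * single h⁻¹ 1 by
      simp [single_mul_single], hφc, ← mul_assoc, single_mul_single, inv_mul_cancel, one_mul,
      ← MonoidAlgebra.one_def, one_mul]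
  let AO : Matrix cls cls (localRing M) := fun i l => ∑ g, (E i).coeff g * fO l g
  have hdet : IsUnit AO.det := by
    rw [← CfsgLib.Blocks.red_ne_zero_iff, RingHom.map_det]
    have : (red M).mapMatrix AO = 1 := by
      ext i l
      rw [RingHom.mapMatrix_apply, Matrix.map_apply]
      simp only [AO, map_sum, map_mul, fO, hsec, ← rho_coeff, hEr]
      have hv : ∑ g, (rep i).coeff g * φ l (single g 1) = φ l (rep i) := by
        have he : rep i = ∑ g, single g ((rep i).coeff g) := CfsgLib.BlockPairs.ga_ext fun x => by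
          rw [MonoidAlgebra.coeff_sum, Finset.sum_apply', Finset.sum_eq_single x
            (fun b _ hb => by rw [MonoidAlgebra.coeff_single, Finsupp.single_eq_of_ne (Ne.symm hb)])
            (by simp), MonoidAlgebra.coeff_single, Finsupp.single_eq_same]
        conv_rhs => rw [he, map_sum]
        refine Finset.sum_congr rfl fun g _ => ?_
        rw [← smul_eq_mul, ← map_smul, MonoidAlgebra.smul_single', mul_one]
      rw [hv]
      by_cases h : i = l
      · subst h; rw [hφ1, Matrix.one_apply_eq]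
      · rw [hφ0 l i h, Matrix.one_apply_ne h]
    rw [this, Matrix.det_one]
    exact one_ne_zero
  let A : Matrix cls cls ℂ := (localRing M).subtype.mapMatrix AO
  have hAdet : IsUnit A.det := by
    rw [← RingHom.map_det]; exact hdet.map _
  have hA : ∀ i l, T M (f l) 1 (rep i) = A i l := fun i l => by
    rw [T_eq_sum (hfc l) (hE i) (hEr i)]
    show _ = ((AO i l : localRing M) : ℂ)
    simp [AO, f]
  let F : cls → H → ℂ := fun i g => ∑ l, A⁻¹ l i * f l g
  have hFc : ∀ i, Cfsg.IsClassFunction H (F i) := fun i =>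
    isClassFunction_linear _ _ _ fun l _ => hfc l
  have hdual : ∀ j i, T M (F i) 1 (rep j) = if j = i then 1 else 0 := by
    intro j i
    rw [T_linear _ _ _ (fun l _ => hfc l) (hs.1 _ (hrs j)).2.1]
    have h1 := congrFun (congrFun (Matrix.mul_nonsing_inv A hAdet) j) i
    rw [Matrix.mul_apply, Matrix.one_apply] at h1
    rw [← h1]
    exact Finset.sum_congr rfl fun l _ => by rw [hA, mul_comm]
  -- the expansion at the regular elements
  have hpη : ∀ η ∈ U, proj U (η : H → ℂ) = (η : H → ℂ) := by
    intro η hη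
    funext y
    rw [proj, Finset.sum_eq_single η (fun ψ _ hne => by
        rw [Characters.classInner_irr, if_neg (Ne.symm hne), zero_mul])
        (fun h => absurd (mem_members.2 hη) h),
      Characters.classInner_irr, if_pos rfl, one_mul]
  have hexpand : ∀ η ∈ U, ∀ y, ¬ p ∣ orderOf y →
      (η : H → ℂ) y = ∑ i, T M (η : H → ℂ) 1 (rep i) * proj U (F i) y := by
    intro η hη y hy
    let d : Option cls → H → ℂ := fun o => o.elim (η : H → ℂ) F
    let w : Option cls → ℂ := fun o => o.elim 1 fun i => -T M (η : H → ℂ) 1 (rep i)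
    have hdc : ∀ o ∈ (Finset.univ : Finset (Option cls)), Cfsg.IsClassFunction H (d o) := by
      rintro (_ | i) -
      · exact Characters.isClassFunction_of_isIrr η.2
      · exact hFc i
    have h0 := proj_eq_zero hU hM (isClassFunction_linear Finset.univ w d hdc) (fun b hb hbU => by
      obtain ⟨a, ha, hi⟩ := hclass b hb hbU
      rw [hi _ (isClassFunction_linear _ _ _ hdc),
        hclrep ⟨a, ha⟩ _ (isClassFunction_linear _ _ _ hdc),
        T_linear _ _ _ hdc (hs.1 _ (hrs _)).2.1, Fintype.sum_option]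
      simp [d, w, hdual, Finset.sum_ite_eq]) hy
    rw [proj, Finset.sum_congr (s₁ := members U) (f := fun ψ : IrrCharacter H =>
      Cfsg.classInner (fun g => ∑ o, w o * d o g) (ψ : H → ℂ) * (ψ : H → ℂ) y) rfl
      (g := fun ψ => ∑ o, w o *
      (Cfsg.classInner (d o) (ψ : H → ℂ) * (ψ : H → ℂ) y)) (fun ψ _ => by
        rw [classInner_linear, Finset.sum_mul]
        exact Finset.sum_congr rfl fun o _ => mul_assoc _ _ _), Finset.sum_comm] at h0
    simp only [← Finset.mul_sum] at h0
    rw [Fintype.sum_option] at h0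
    have h1 := congrFun (hpη η hη) y
    simp only [d, w, Option.elim, one_mul, neg_mul, Finset.sum_neg_distrib] at h0
    rw [proj] at h1
    rw [h1] at h0
    exact add_neg_eq_zero.1 h0
  refine ⟨s, hs, cls, inferInstance, cl, F, fun i => ⟨⟨rep i, hrs i⟩, Subtype.ext (hrp i)⟩, hFc,
    fun a i _ => ?_, hclass, fun η hη => ⟨_, hexpand η hη⟩⟩
  rw [hclrep a _ (hFc i), hdual]
  split_ifs <;> first | rfl | contradiction

/-! ### The p'-part -/

/-- The p'-part of an element. -/
noncomputable def regP (p : ℕ) [hp : Fact p.Prime] {X : Type u} [Group X] [Finite X] (x : X) : X :=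
  (Classical.choose (CfsgLib.Blocks.exists_isPPart hp.out x))⁻¹ * x

theorem regP_eq {X : Type u} [Group X] [Finite X] {a b : X} (hab : Commute a b)
    (ha : ∃ k, orderOf a = p ^ k) (hb : ¬ p ∣ orderOf b) : regP p (a * b) = b := by
  have h1 := Classical.choose_spec (CfsgLib.Blocks.exists_isPPart (Fact.out : p.Prime) (a * b))
  have h2 : Cfsg.IsPPart p (a * b) a := ⟨b, rfl, hab, ha, hb⟩
  rw [regP, CfsgLib.Blocks.isPPart_unique Fact.out h1 h2, inv_mul_cancel_left]

theorem exists_regP {X : Type u} [Group X] [Finite X] (x : X) :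
    ∃ a, a * regP p x = x ∧ Commute a (regP p x) ∧ (∃ k, orderOf a = p ^ k) ∧
      ¬ p ∣ orderOf (regP p x) := by
  obtain ⟨a, y, hxy, hc, ha, hy⟩ := CfsgLib.Blocks.exists_isPPart (Fact.out : p.Prime) x
  have : regP p x = y := by
    conv_lhs => rw [← hxy]
    exact regP_eq hc ha hy
  exact ⟨a, by rw [this, hxy], by rw [this]; exact hc, ha, by rwa [this]⟩

theorem regP_of_regular {X : Type u} [Group X] [Finite X] {x : X} (hx : ¬ p ∣ orderOf x) :
    regP p x = x := by
  have h := regP_eq (p := p) (Commute.one_left x) ⟨0, by rw [orderOf_one, pow_zero]⟩ hx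
  rwa [one_mul] at h

theorem regP_map {X Y : Type u} [Group X] [Finite X] [Group Y] [Finite Y] (f : X →* Y)
    (hf : Function.Injective f) (x : X) : regP p (f x) = f (regP p x) := by
  obtain ⟨a, hax, hc, ha, hy⟩ := exists_regP (p := p) x
  conv_lhs => rw [← hax]
  rw [map_mul]
  exact regP_eq (hc.map f) (by rwa [orderOf_injective f hf]) (by rwa [orderOf_injective f hf])

theorem isNilpotent_of_elementary {E : Type u} [Group E] [Finite E] {q : ℕ} (hq : q.Prime)
    (hE : Cfsg.IsElementary q E) : Group.IsNilpotent E := by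
  obtain ⟨x, hxc, -, k, hk⟩ := hE
  haveI : Fact q.Prime := ⟨hq⟩
  apply Group.of_quotient_center_nilpotent
  have hp' : IsPGroup q (E ⧸ Subgroup.center E) := by
    obtain ⟨j, -, hj⟩ := (Nat.dvd_prime_pow hq).1
      (hk ▸ Subgroup.index_dvd_of_le (Subgroup.zpowers_le.2 hxc))
    exact IsPGroup.of_card (n := j) (by rw [← Subgroup.index_eq_card, hj])
  exact hp'.isNilpotent

theorem regP_mul {E : Type u} [Group E] [Finite E] [hnil : Group.IsNilpotent E] {q : ℕ}
    (hq : q.Prime) (hE : Cfsg.IsElementary q E) (x y : E) :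
    regP p (x * y) = regP p x * regP p y := by
  obtain ⟨a, hax, hca, ⟨i, ha⟩, hx'⟩ := exists_regP (p := p) x
  obtain ⟨b, hby, hcb, ⟨j, hb⟩, hy'⟩ := exists_regP (p := p) y
  set x' := regP p x
  set y' := regP p y
  have hcop : ∀ (c : E) (k : ℕ), orderOf c = p ^ k → ∀ z : E, ¬ p ∣ orderOf z → Commute c z :=
    fun c k hc z hz => NilpotentCover.commute_of_coprime c z
      (hc ▸ ((Fact.out : p.Prime).coprime_iff_not_dvd.2 hz).pow_left _)
  obtain ⟨P⟩ : Nonempty (Sylow p E) := inferInstance
  haveI hPn : (P : Subgroup E).Normal :=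
    Group.isNilpotent_of_finite_tfae.out 0 3 rfl rfl |>.mp hnil p ‹_› P
  haveI := (Sylow.unique_of_normal P hPn).instSubsingleton
  have hmemP : ∀ (c : E) (k : ℕ), orderOf c = p ^ k → c ∈ (P : Subgroup E) := by
    intro c k hc
    obtain ⟨Q, hQ⟩ := (IsPGroup.of_card (p := p) (G := Subgroup.zpowers c) (n := k)
      (by rw [Nat.card_zpowers, hc])).exists_le_sylow
    rw [Subsingleton.elim P Q]
    exact hQ (Subgroup.mem_zpowers c)
  have hab : ∃ k, orderOf (a * b) = p ^ k := by
    obtain ⟨k, hk⟩ := IsPGroup.iff_orderOf.1 P.isPGroup'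
      ⟨a * b, mul_mem (hmemP a i ha) (hmemP b j hb)⟩
    exact ⟨k, by rwa [Subgroup.orderOf_mk] at hk⟩
  have hxy' : ¬ p ∣ orderOf (x' * y') := by
    obtain ⟨H', -, hmem, -⟩ := exists_regular_subgroup (p := p) hq hE
    exact (hmem _).1 (mul_mem ((hmem _).2 hx') ((hmem _).2 hy'))
  have hcomm : Commute (a * b) (x' * y') := by
    obtain ⟨k, hk⟩ := hab
    exact hcop _ k hk _ hxy'
  have he : x * y = a * b * (x' * y') := by
    rw [← hax, ← hby, mul_assoc a b, ← mul_assoc b, (hcop b j hb x' hx').eq]
    simp only [mul_assoc]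
  rw [he]
  exact regP_eq hcomm hab hxy'

theorem tau_proj {f : H → ℂ} (hf : Cfsg.IsClassFunction H f)
    (A : MonoidAlgebra (localRing M) H) :
    tau M (proj U f) A = tau M f (idemU M hU * A) := by
  induction A using MonoidAlgebra.induction_linear with
  | zero => rw [mul_zero, map_zero, map_zero]
  | add a b ha hb => rw [mul_add, map_add, map_add, ha, hb]
  | single g a =>
    classical
    rw [tau_idemU_single hU hf, tau_apply, Finset.sum_eq_single g
      (fun b _ hb => by simp [Finsupp.single_eq_of_ne hb]) (by simp)]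
    simp

/-- On a p'-group the multiplicities of linear characters are traces of idempotents. -/
theorem exists_int_classInner_linear (hM : Cfsg.IsPModular p M) {f : H → ℂ}
    (hf : Cfsg.IsClassFunction H f)
    (hint : ∀ b, Prim ⊤ₐ b → rho M H (idemU M hU) * b = b → ∃ z : ℤ, T M f 1 b = z)
    {K : Type u} [Group K] [Fintype K] (κ : K →* H) (hK : ¬ p ∣ Nat.card K) (lam : K →* ℂˣ) :
    ∃ z : ℤ, Cfsg.classInner (fun k => proj U f (κ k)) (fun k => (lam k : ℂ)) = z := by
  classical
  haveI := CfsgLib.BlockPairs.isAlgClosed_res hM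
  have hK0 : (Nat.card K : ℂ) ≠ 0 := Nat.cast_ne_zero.2 Nat.card_pos.ne'
  have hlam : ∀ k, Cfsg.MemLocalRing M (conj (lam k : ℂ)) := by
    intro k
    refine CfsgLib.Blocks.memLocalRing_of_isIntegral (IsIntegral.of_pow (n := Nat.card K)
      Nat.card_pos ?_)
    rw [← map_pow, ← Units.val_pow_eq_pow_val, ← map_pow, pow_card_eq_one', map_one,
      Units.val_one, map_one]
    exact isIntegral_one
  have hinv : Cfsg.MemLocalRing M ((Nat.card K : ℂ)⁻¹) :=
    CfsgLib.Blocks.memLocalRing_natCast_inv hM hK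
  let c : K → localRing M := fun k => ⟨(Nat.card K : ℂ)⁻¹ * conj (lam k : ℂ),
    Subring.mul_mem _ hinv (hlam k)⟩
  let e : MonoidAlgebra (localRing M) H := ∑ k, single (κ k) (c k)
  have hcc : ∀ k l : K, c k * c l = ⟨(Nat.card K : ℂ)⁻¹, hinv⟩ * c (k * l) := by
    intro k l
    apply Subtype.ext
    simp only [c, Subring.coe_mul, map_mul, Units.val_mul]
    ring
  have hee : e * e = e := by
    simp only [e, Finset.sum_mul, Finset.mul_sum, single_mul_single, ← map_mul, hcc]
    refine (Finset.sum_congr rfl (g := fun _ : K =>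
      ∑ n : K, single (κ n) (⟨(Nat.card K : ℂ)⁻¹, hinv⟩ * c n)) fun k _ =>
      Fintype.sum_equiv (Equiv.mulRight k) _
        (fun n => single (κ n) (⟨(Nat.card K : ℂ)⁻¹, hinv⟩ * c n)) fun l => rfl).trans ?_
    rw [Finset.sum_const, Finset.card_univ, Finset.smul_sum]
    refine Finset.sum_congr rfl fun n _ => ?_
    rw [MonoidAlgebra.smul_single]
    congr 1
    apply Subtype.ext
    simp only [nsmul_eq_mul, Subring.coe_mul, c]
    rw [← Nat.card_eq_fintype_card]
    push_cast
    field_simp
  have hval : Cfsg.classInner (fun k => proj U f (κ k)) (fun k => (lam k : ℂ)) =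
      tau M (proj U f) e := by
    simp only [e, map_sum, Cfsg.classInner, Finset.mul_sum]
    refine Finset.sum_congr rfl fun k _ => ?_
    rw [tau_apply, Finset.sum_eq_single (κ k)
      (fun b _ hb => by simp [Finsupp.single_eq_of_ne hb]) (by simp)]
    simp [c]
    ring
  rw [hval, tau_proj hU hf]
  set E := idemU M hU * e
  have hE : E * E = E := by
    simp only [E]
    rw [(idemU_comm hU e).symm.mul_mul_mul_comm, idemU_mul_self, hee]
  have hj : rho M H E * rho M H E = rho M H E := by rw [← map_mul, hE]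
  have hjU : rho M H (idemU M hU) * rho M H E = rho M H E := by
    rw [← map_mul]; simp only [E]; rw [← mul_assoc, idemU_mul_self]
  obtain ⟨t, ht⟩ := exists_decomp (A := ⊤ₐ) trivial hj
  have hsum : tau M f E = ∑ b ∈ t, T M f 1 b := by
    rw [tau_apply, ← T_eq_sum hf hE rfl, ← ht.2.2]
    exact T_sum hf 1 t id (fun i hi => (ht.1 i hi).2.1) ht.2.1
      (fun i _ => CfsgLib.BlockPairs.conjA_one_left i)
  have hb : ∀ b ∈ t, ∃ z : ℤ, T M f 1 b = z := fun b hb =>
    hint b (ht.1 b hb) (by rw [← (ht.mul_mem_eq hb).1, ← mul_assoc, hjU])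
  choose! z hz using hb
  exact ⟨∑ b ∈ t, z b, by rw [hsum, Int.cast_sum]; exact Finset.sum_congr rfl hz⟩

/-- A class function with integral traces below `U` lifts to a generalized character. -/
theorem isGen_proj_regP (hM : Cfsg.IsPModular p M) {f : H → ℂ} (hf : Cfsg.IsClassFunction H f)
    (hint : ∀ b, Prim ⊤ₐ b → rho M H (idemU M hU) * b = b → ∃ z : ℤ, T M f 1 b = z) :
    Cfsg.IsGeneralizedCharacter H (fun x => proj U f (regP p x)) := by
  classical
  have hreg : ∀ x h : H, regP p (h * x * h⁻¹) = h * regP p x * h⁻¹ := fun x h =>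
    regP_map (MulAut.conj h).toMonoidHom (MulAut.conj h).injective x
  refine Characters.isGen_of_elementary
    (fun x h => by simp only [hreg]; exact isClassFunction_proj f _ _) fun E q hq hE => ?_
  haveI := isNilpotent_of_elementary hq hE
  haveI := Fintype.ofFinite E
  obtain ⟨R, -, hmem, -⟩ := exists_regular_subgroup (p := p) hq hE
  let π : E →* R :=
    { toFun := fun e => ⟨regP p e, (hmem _).2 (exists_regP e).choose_spec.2.2.2⟩
      map_one' := Subtype.ext (regP_of_regular (by
        rw [orderOf_one]; exact (Fact.out : p.Prime).not_dvd_one))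
      map_mul' := fun a b => Subtype.ext (regP_mul hq hE a b) }
  have hfun : (fun e : E => proj U f (regP p (e : H))) =
      fun e => (fun r : R => proj U f ((r : E) : H)) (π e) := by
    funext e
    show proj U f (regP p (E.subtype e)) = proj U f (E.subtype (regP p e))
    rw [regP_map E.subtype E.subtype_injective]
  rw [hfun]
  refine Characters.isGen_comp π (θ := fun r : R => proj U f ((r : E) : H)) ?_
  haveI := Fintype.ofFinite R
  have hRc : ¬ p ∣ Nat.card R := by
    intro h
    obtain ⟨r, hr⟩ := exists_prime_orderOf_dvd_card' p h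
    exact (hmem r).1 r.2 (by rw [Subgroup.orderOf_coe, hr])
  have hc : Cfsg.IsClassFunction R (fun r : R => proj U f ((r : E) : H)) := fun x h => by
    simp only [Subgroup.coe_mul, Subgroup.coe_inv]
    exact isClassFunction_proj f _ _
  refine Characters.isGen_of_classInner hc fun χ => ?_
  obtain ⟨K, lam, hlam⟩ := Characters.monomial_of_nilpotent_aux _ R rfl _ χ.2
  haveI := Fintype.ofFinite K
  rw [hlam, Characters.classInner_indFun_right K _ hc]
  exact exists_int_classInner_linear hU hM hf hint ((E.subtype.comp R.subtype).comp K.subtype)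
    (fun h => hRc (h.trans (Subgroup.card_subgroup_dvd_card K))) lam

end CfsgLib.BlocksRational
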