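import Cfsg.Agent.Star.Trace
import Cfsg.Agent.BlocksLocal.ProjTrace
import Cfsg.Agent.BlockPairing.Subsections
import Cfsg.Agent.BlockPairs.ResField
import Cfsg.Agent.BlockPairs.Transport
import Mathlib.RingTheory.RootsOfUnity.Complex

/-!
# An automorphism permutes the projective indecomposable characters of a union of blocks

For a union `U` of blocks stable under an automorphism `α`, the trace of `α` on the span of the
restrictions of `U` to the p-regular elements, written as `∑ [ξ ∘ α, ξ]°`, is a natural number: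
the classes of primitive idempotents below the idempotent of `U` give a dual basis, and `α`
permutes them.
-/

set_option autoImplicit false
set_option linter.unusedSectionVars false
set_option linter.style.haveILetI false
set_option maxHeartbeats 1000000

namespace CfsgLib.BlocksRational

open Cfsg MonoidAlgebra CfsgLib.Star CfsgLib.BlockPairing
open CfsgLib.BlockPairs (GA)
open CfsgLib.Blocks (localRing red Res IsBlockUnion)
open scoped ComplexConjugate

universe u

variable {M : Ideal AlgInt} [M.IsPrime] {H : Type u} [Group H] [Fintype H]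

theorem T_eq_sum {f : H → ℂ} (hf : Cfsg.IsClassFunction H f) {j : GA (Res M) H}
    {E : MonoidAlgebra (localRing M) H} (hE : E * E = E) (hr : rho M H E = j) :
    T M f 1 j = ∑ g, (E.coeff g : ℂ) * f g := by
  rw [T_eq hf hE ⟨by rw [← MonoidAlgebra.one_def]; exact Commute.one_left E, hr⟩,
    ← MonoidAlgebra.one_def, one_mul, tau_apply]

theorem isClassFunction_linear {ι : Type*} (s : Finset ι) (c : ι → ℂ) (f : ι → H → ℂ)
    (hf : ∀ i ∈ s, Cfsg.IsClassFunction H (f i)) :
    Cfsg.IsClassFunction H (fun g => ∑ i ∈ s, c i * f i g) := fun g h =>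
  Finset.sum_congr rfl fun i hi => by rw [hf i hi g h]

/-- Linearity in the function. -/
theorem T_linear {ι : Type*} (s : Finset ι) (c : ι → ℂ) (f : ι → H → ℂ)
    (hf : ∀ i ∈ s, Cfsg.IsClassFunction H (f i)) {j : GA (Res M) H} (hj : j * j = j) :
    T M (fun g => ∑ i ∈ s, c i * f i g) 1 j = ∑ i ∈ s, c i * T M (f i) 1 j := by
  obtain ⟨E, hE, hEz⟩ := exists_lift (M := M) j hj
  have hr := (hEz 1 (CfsgLib.BlockPairs.conjA_one_left j)).2
  rw [T_eq_sum (isClassFunction_linear s c f hf) hE hr,
    Finset.sum_congr (s₁ := s) (f := fun i => c i * T M (f i) 1 j) rfl fun i hi => by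
      rw [T_eq_sum (hf i hi) hE hr, Finset.mul_sum]]
  simp only [Finset.mul_sum]
  rw [Finset.sum_comm]
  exact Finset.sum_congr rfl fun g _ => Finset.sum_congr rfl fun i _ => by ring

variable {p : ℕ} [hp : Fact p.Prime]

/-- Only the values at the p-regular elements matter. -/
theorem T_congr_regular (hM : Cfsg.IsPModular p M) {f f' : H → ℂ}
    (hf : Cfsg.IsClassFunction H f) (hf' : Cfsg.IsClassFunction H f')
    (h : ∀ g, ¬ p ∣ orderOf g → f g = f' g) {j : GA (Res M) H} (hj : j * j = j) :
    T M f 1 j = T M f' 1 j := by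
  obtain ⟨E, hE, hEz⟩ := exists_lift (M := M) j hj
  have hr := (hEz 1 (CfsgLib.BlockPairs.conjA_one_left j)).2
  rw [T_eq_sum hf hE hr, T_eq_sum hf' hE hr, ← sub_eq_zero, ← Finset.sum_sub_distrib]
  simp only [← mul_sub]
  exact CfsgLib.BlocksLocal.sum_coeff_mul_eq_zero_of_idempotent hM E hE (fun g => f g - f' g)
    (fun g k => by simp only [hf g k, hf' g k]) fun g hg => sub_eq_zero.2 (h g hg)

/-- A p-regular element is a combination of idempotents commuting with what it commutes with. -/
theorem exists_combination (hM : Cfsg.IsPModular p M) {y : H} (hy : ¬ p ∣ orderOf y) :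
    ∃ (ε : ℕ → MonoidAlgebra (localRing M) H) (c : ℕ → localRing M),
      (∀ l, ε l * ε l = ε l) ∧
      single y 1 = ∑ l ∈ Finset.range (orderOf y), c l • ε l := by
  classical
  set n := orderOf y with hn
  have hn0 : 0 < n := orderOf_pos y
  have hprim := Complex.isPrimitiveRoot_exp n hn0.ne'
  set r : ℂ := Complex.exp (2 * Real.pi * Complex.I / n)
  have hr : r ^ n = 1 := hprim.pow_eq_one
  have hmem : Cfsg.MemLocalRing M r := memLocalRing_of_root
    (Polynomial.monic_X_pow_sub_C (1 : localRing M) hn0.ne')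
    (by rw [Polynomial.eval₂_sub, Polynomial.eval₂_X_pow, Polynomial.eval₂_C, map_one, hr, sub_self])
  set ω : localRing M := ⟨r, hmem⟩
  have hω : IsPrimitiveRoot ω n :=
    IsPrimitiveRoot.of_map_of_injective (f := (localRing M).subtype) hprim Subtype.val_injective
  set ω' : localRing M := ω ^ (n - 1)
  have hωω : ω' * ω = 1 := by
    rw [← pow_succ, Nat.sub_add_cancel hn0, hω.pow_eq_one]
  obtain ⟨v, hv⟩ := CfsgLib.Blocks.isUnit_natCast (M := M) hM hy
  set a : MonoidAlgebra (localRing M) H := single y 1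
  have han : a ^ n = 1 := by
    rw [single_pow, hn, pow_orderOf_eq_one, one_pow, MonoidAlgebra.one_def]
  set S : ℕ → MonoidAlgebra (localRing M) H :=
    fun l => ∑ i ∈ Finset.range n, (ω' ^ (l * i)) • a ^ i with hS
  set ε : ℕ → MonoidAlgebra (localRing M) H := fun l => (↑v⁻¹ : localRing M) • S l with hε
  have hstep : ∀ l, a * S l = (ω ^ l) • S l := by
    intro l
    have h1 : ∀ i, (ω ^ l) • (ω' ^ (l * (i + 1))) • a ^ (i + 1) = a * (ω' ^ (l * i) • a ^ i) := by
      intro i
      rw [smul_smul, mul_smul_comm, ← pow_succ', mul_add, mul_one, pow_add, mul_comm (ω' ^ (l * i)),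
        ← mul_assoc, ← mul_pow, mul_comm ω, hωω, one_pow, one_mul]
    have h2 := Finset.sum_range_succ' (fun i => ω' ^ (l * i) • a ^ i) n
    rw [Finset.sum_range_succ] at h2
    have h3 : ω' ^ (l * n) • a ^ n = ω' ^ (l * 0) • a ^ 0 := by
      rw [han, mul_zero, pow_zero, pow_zero, mul_comm, pow_mul, ← pow_mul ω, mul_comm (n - 1),
        pow_mul, hω.pow_eq_one, one_pow, one_pow]
    rw [h3, add_left_inj] at h2
    rw [hS, Finset.mul_sum, Finset.sum_congr rfl fun i _ => (h1 i).symm, ← Finset.smul_sum, ← h2]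
  have hpow : ∀ l i, a ^ i * S l = (ω ^ (l * i)) • S l := by
    intro l i
    induction i with
    | zero => simp
    | succ i ih =>
      rw [pow_succ', mul_assoc, ih, mul_smul_comm, hstep, smul_smul, ← pow_add, mul_add, mul_one]
  refine ⟨ε, fun l => ω ^ l, fun l => ?_, ?_⟩
  · have hSS : S l * S l = (n : localRing M) • S l := by
      conv_lhs => arg 1; rw [hS]
      rw [Finset.sum_mul, Finset.sum_congr rfl (g := fun _ => S l) (fun i _ => by
        rw [smul_mul_assoc, hpow, smul_smul, ← mul_pow, hωω, one_pow, one_smul]),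
        Finset.sum_const, Finset.card_range, Nat.cast_smul_eq_nsmul]
    rw [hε, smul_mul_smul_comm, hSS, smul_smul, ← hv, mul_assoc, Units.inv_mul, mul_one]
  · have hgeom : ∀ i ∈ Finset.range n, ∑ l ∈ Finset.range n, ω ^ l * ω' ^ (l * i) =
        if i = 1 % n then (n : localRing M) else 0 := by
      intro i hi
      rw [Finset.sum_congr rfl (g := fun l => (ω * ω' ^ i) ^ l) fun l _ => by
        rw [mul_pow, ← pow_mul ω' i l, mul_comm i l]]
      have key : ω * ω' ^ i = 1 ↔ i = 1 % n := by
        have h0 : ω * ω' ^ i = 1 ↔ ω = ω ^ i := by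
          constructor
          · intro h
            have := congrArg (· * ω ^ i) h
            simpa [mul_assoc, ← mul_pow, hωω] using this
          · intro h
            conv_lhs => arg 1; rw [h]
            rw [← mul_pow, mul_comm, hωω, one_pow]
        rw [h0]
        conv_lhs => lhs; rw [← pow_one ω, ← pow_mod_orderOf, ← hω.eq_orderOf]
        constructor
        · intro h
          exact (hω.pow_inj (Nat.mod_lt _ hn0) (Finset.mem_range.1 hi) h).symm
        · rintro rfl; rfl
      split_ifs with h
      · rw [key.2 h]; simp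
      · have h1 : (ω * ω' ^ i) ^ n = 1 := by
          have h' : ω' ^ n = 1 := by
            rw [← pow_mul, mul_comm, pow_mul, hω.pow_eq_one, one_pow]
          rw [mul_pow, hω.pow_eq_one, ← pow_mul ω' i n, mul_comm i n, pow_mul, h', one_pow, one_mul]
        have h2 := geom_sum_mul (ω * ω' ^ i) n
        rw [h1, sub_self] at h2
        exact (mul_eq_zero.1 h2).resolve_right (sub_ne_zero.2 fun e => h (key.1 e))
    have hexp : ∀ l, ω ^ l • ε l =
        ∑ i ∈ Finset.range n, (↑v⁻¹ * (ω ^ l * ω' ^ (l * i)) : localRing M) • a ^ i := by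
      intro l
      simp only [hε, hS, Finset.smul_sum, smul_smul]
      exact Finset.sum_congr rfl fun i _ => by ring_nf
    rw [Finset.sum_congr rfl fun l _ => hexp l, Finset.sum_comm,
      Finset.sum_congr rfl fun i hi => by rw [← Finset.sum_smul, ← Finset.mul_sum, hgeom i hi],
      Finset.sum_eq_single (1 % n) (fun i _ hne => by rw [if_neg hne, mul_zero, zero_smul])
        (fun h => absurd (Finset.mem_range.2 (Nat.mod_lt _ hn0)) h),
      if_pos rfl, ← hv, Units.inv_mul, one_smul, hn, single_pow, pow_mod_orderOf, pow_one, one_pow]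

/-- The idempotent over the local ring of a union of blocks. -/
noncomputable def idemU (M : Ideal AlgInt) [M.IsPrime] {U : Set (IrrCharacter H)}
    (hU : IsBlockUnion M U) : MonoidAlgebra (localRing M) H :=
  (CfsgLib.Blocks.setIdemO M U (CfsgLib.Blocks.memLocalRing_blockCoeff hU) :
    MonoidAlgebra (localRing M) H)

variable {U : Set (IrrCharacter H)} (hU : IsBlockUnion M U)

theorem coeff_idemU (g : H) : (((idemU M hU).coeff g : localRing M) : ℂ) = Cfsg.blockCoeff U g := by
  simp [idemU, CfsgLib.Blocks.setIdemO]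

theorem idemU_comm (a : MonoidAlgebra (localRing M) H) :
    Commute (idemU M hU) a :=
  (Subring.mem_center_iff.1 (CfsgLib.Blocks.setIdemO M U
    (CfsgLib.Blocks.memLocalRing_blockCoeff hU)).2 a).symm

theorem idemU_mul_self : idemU M hU * idemU M hU = idemU M hU := by
  classical
  have h : CfsgLib.Blocks.setIdemO M U (CfsgLib.Blocks.memLocalRing_blockCoeff hU) *
      CfsgLib.Blocks.setIdemO M U (CfsgLib.Blocks.memLocalRing_blockCoeff hU) =
      CfsgLib.Blocks.setIdemO M U (CfsgLib.Blocks.memLocalRing_blockCoeff hU) :=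
    CfsgLib.Blocks.ctr_ext_omegaO fun ψ => by
      rw [map_mul, CfsgLib.Blocks.omegaO_setIdemO]; split_ifs <;> simp
  exact congrArg Subtype.val h

open Classical in
/-- The members of a set of irreducible characters. -/
noncomputable def members (U : Set (IrrCharacter H)) : Finset (IrrCharacter H) :=
  Finset.univ.filter fun η => η ∈ U

theorem mem_members {V : Set (IrrCharacter H)} {η : IrrCharacter H} : η ∈ members V ↔ η ∈ V := by
  simp [members]

/-- The part of a class function in `U`. -/
noncomputable def proj (U : Set (IrrCharacter H)) (f : H → ℂ) (y : H) : ℂ :=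
  ∑ η ∈ members U, Cfsg.classInner f (η : H → ℂ) * (η : H → ℂ) y

theorem tau_idemU_single {f : H → ℂ} (hf : Cfsg.IsClassFunction H f) (y : H) (a : localRing M) :
    tau M f (idemU M hU * single y a) = (a : ℂ) * proj U f y := by
  classical
  have h1 : Cfsg.blockPart U f y = proj U f y := by
    rw [Cfsg.blockPart, finsum_mem_eq_toFinset_sum,
      show (Fintype.ofFinite H) = ‹Fintype H› from Subsingleton.elim _ _]
    exact Finset.sum_congr (Finset.ext fun η => by simp [mem_members]) fun η _ => rfl
  rw [tau_apply, ← h1, CfsgLib.Blocks.blockPart_eq_sum U hf y, Finset.mul_sum]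
  refine (Fintype.sum_equiv (Equiv.mulRight y) _ _ fun k => ?_).symm
  rw [Equiv.coe_mulRight, MonoidAlgebra.coeff_mul_single_apply, mul_inv_cancel_right,
    Subring.coe_mul, coeff_idemU]
  ring

theorem T_outside {η : IrrCharacter H} (hη : η ∉ U) {j : GA (Res M) H}
    (hj : j * j = j) (hjU : rho M H (idemU M hU) * j = j) : T M (η : H → ℂ) 1 j = 0 := by
  classical
  obtain ⟨E, hE, hEz⟩ := exists_lift (M := M) j hj
  have hr := (hEz 1 (CfsgLib.BlockPairs.conjA_one_left j)).2
  have hc := Characters.isClassFunction_of_isIrr η.2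
  have hE' : idemU M hU * E * (idemU M hU * E) = idemU M hU * E := by
    rw [(idemU_comm hU E).symm.mul_mul_mul_comm, idemU_mul_self, hE]
  rw [T_eq_sum hc hE' (by rw [map_mul, hr, hjU]), ← tau_apply]
  have hall : ∀ A : MonoidAlgebra (localRing M) H,
      tau M (η : H → ℂ) (idemU M hU * A) = 0 := by
    intro A
    induction A using MonoidAlgebra.induction_linear with
    | zero => rw [mul_zero, map_zero]
    | add a b ha hb => rw [mul_add, map_add, ha, hb, add_zero]
    | single g a =>
      rw [tau_idemU_single hU hc, proj, Finset.sum_eq_zero (fun ψ hψ => by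
        rw [Characters.classInner_irr, if_neg (fun e : η = ψ => hη (e ▸ mem_members.1 hψ)),
          zero_mul]), mul_zero]
  exact hall E

theorem classInner_linear {ι : Type*} (s : Finset ι) (c : ι → ℂ) (f : ι → H → ℂ) (η : H → ℂ) :
    Cfsg.classInner (fun g => ∑ i ∈ s, c i * f i g) η =
      ∑ i ∈ s, c i * Cfsg.classInner (f i) η := by
  simp only [Cfsg.classInner, Finset.sum_mul, Finset.mul_sum]
  rw [Finset.sum_comm]
  exact Finset.sum_congr rfl fun i _ => Finset.sum_congr rfl fun g _ => by ring

/-- The traces at idempotents below `U` see only the part in `U`. -/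
theorem T_proj {f : H → ℂ} (hf : Cfsg.IsClassFunction H f) {j : GA (Res M) H}
    (hj : j * j = j) (hjU : rho M H (idemU M hU) * j = j) :
    T M (proj U f) 1 j = T M f 1 j := by
  classical
  have hexp : f = fun g => ∑ η : IrrCharacter H,
      Cfsg.classInner f (η : H → ℂ) * (η : H → ℂ) g := by
    funext g
    have h := congrFun (Characters.classFunction_expansion hf) g
    simpa only [Finset.sum_apply, Pi.smul_apply, smul_eq_mul] using h
  conv_rhs => rw [hexp, T_linear _ _ _ (fun η _ => Characters.isClassFunction_of_isIrr η.2) hj]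
  rw [show proj U f = fun y => ∑ η ∈ members U,
    Cfsg.classInner f (η : H → ℂ) * (η : H → ℂ) y from rfl,
    T_linear _ _ _ (fun η _ => Characters.isClassFunction_of_isIrr η.2) hj]
  refine Finset.sum_subset (Finset.subset_univ _) fun η _ hη => ?_
  rw [T_outside hU (fun h => hη (mem_members.2 h)) hj hjU, mul_zero]

theorem isClassFunction_proj (f : H → ℂ) : Cfsg.IsClassFunction H (proj U f) := by
  classical
  exact isClassFunction_linear _ _ _ fun η _ => Characters.isClassFunction_of_isIrr η.2

local notation "⊤ₐ" => (⊤ : Subalgebra (Res M) (GA (Res M) H))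

/-- A class function killed by all traces below `U` has no part in `U` at the regular elements. -/
theorem proj_eq_zero (hM : Cfsg.IsPModular p M) [IsAlgClosed (Res M)] {f : H → ℂ}
    (hf : Cfsg.IsClassFunction H f)
    (h : ∀ b, Prim ⊤ₐ b → rho M H (idemU M hU) * b = b → T M f 1 b = 0)
    {y : H} (hy : ¬ p ∣ orderOf y) : proj U f y = 0 := by
  classical
  obtain ⟨ε, c, hε, hsum⟩ := exists_combination (M := M) hM hy
  have h1 := tau_idemU_single hU hf y (1 : localRing M)
  rw [OneMemClass.coe_one, one_mul] at h1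
  rw [← h1, hsum, Finset.mul_sum, map_sum]
  refine Finset.sum_eq_zero fun l _ => ?_
  have hE : idemU M hU * ε l * (idemU M hU * ε l) = idemU M hU * ε l := by
    rw [(idemU_comm hU (ε l)).symm.mul_mul_mul_comm, idemU_mul_self, hε]
  have hj : rho M H (idemU M hU * ε l) * rho M H (idemU M hU * ε l) =
      rho M H (idemU M hU * ε l) := by rw [← map_mul, hE]
  have hjU : rho M H (idemU M hU) * rho M H (idemU M hU * ε l) =
      rho M H (idemU M hU * ε l) := by rw [← map_mul, ← mul_assoc, idemU_mul_self]
  have h0 : T M f 1 (rho M H (idemU M hU * ε l)) = 0 := by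
    obtain ⟨s, hs⟩ := exists_decomp (A := ⊤ₐ) trivial hj
    rw [← hs.2.2, show ∑ i ∈ s, i = ∑ i ∈ s, id i from rfl, T_sum hf 1 s id (fun i hi => (hs.1 i hi).2.1) hs.2.1
      (fun i _ => CfsgLib.BlockPairs.conjA_one_left i)]
    refine Finset.sum_eq_zero fun b hb => h b (hs.1 b hb) ?_
    rw [← (hs.mul_mem_eq hb).1, ← mul_assoc, hjU]
  rw [T_eq_sum hf hE rfl] at h0
  have h2 : ∀ A : MonoidAlgebra (localRing M) H,
      tau M f (c l • A) = (c l : ℂ) * tau M f A := fun A => by
    simp only [tau_apply, Finset.mul_sum]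
    exact Finset.sum_congr rfl fun g _ => by simp [mul_assoc]
  rw [mul_smul_comm, h2, tau_apply, h0, mul_zero]

open Classical in
/-- An automorphism acts on the span of the regular restrictions of `U` by a permutation. -/
theorem exists_nat_twist (hM : Cfsg.IsPModular p M) (hU : IsBlockUnion M U) (α : H ≃* H)
    (hα : ∀ ξ ∈ U, CfsgLib.BlockPairs.irrComp α ξ ∈ U) :
    ∃ m : ℕ, ∑ ξ : IrrCharacter H,
      (if ξ ∈ U then regInner p (fun y => (ξ : H → ℂ) (α y)) ξ else 0) = (m : ℂ) := by
  classical
  haveI := CfsgLib.BlockPairs.isAlgClosed_res hM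
  set eU := rho M H (idemU M hU) with heU
  have heUU : eU * eU = eU := by rw [heU, ← map_mul, idemU_mul_self]
  have hcU : ∀ a, eU * a = a * eU := fun a => by
    obtain ⟨A, rfl⟩ := rho_surjective a
    rw [heU, ← map_mul, ← map_mul, (idemU_comm hU A).eq]
  let σO := MonoidAlgebra.domCongr (localRing M) (localRing M) α
  let σ := MonoidAlgebra.domCongr (Res M) (Res M) α
  have hσρ : ∀ A, rho M H (σO A) = σ (rho M H A) := fun A =>
    CfsgLib.BlockPairs.ga_ext fun g => by simp [σO, σ]
  -- `U` and its idempotent are stable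
  have hbij : Function.Bijective (fun ξ : U => (⟨CfsgLib.BlockPairs.irrComp α ξ.1, hα _ ξ.2⟩ : U)) := by
    refine Finite.injective_iff_bijective.1 fun a b h => Subtype.ext (Subtype.ext (funext fun x => ?_))
    have := congrFun (congrArg Subtype.val (congrArg Subtype.val h)) (α.symm x)
    simpa [CfsgLib.BlockPairs.irrComp_apply] using this
  have hco : ∀ g, Cfsg.blockCoeff U (α g) = Cfsg.blockCoeff U g := by
    intro g
    simp only [CfsgLib.Blocks.blockCoeff_eq_sum]
    congr 1
    simp only [← Finset.sum_filter]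
    rw [Finset.sum_subtype (p := fun ξ => ξ ∈ U) _ (by simp),
      Finset.sum_subtype (p := fun ξ => ξ ∈ U) (f := fun ξ : IrrCharacter H =>
        (ξ : H → ℂ) 1 * conj ((ξ : H → ℂ) g)) _ (by simp)]
    refine Fintype.sum_bijective _ hbij _ _ fun ξ => ?_
    simp [CfsgLib.BlockPairs.irrComp_apply]
  have hσe : σ eU = eU := CfsgLib.BlockPairs.ga_ext fun g => by
    simp only [σ, MonoidAlgebra.coeff_domCongr, heU, rho_coeff]
    congr 1
    refine Subtype.ext ?_
    rw [coeff_idemU, coeff_idemU, ← hco (α.symm g), α.apply_symm_apply]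
  -- the classes of primitive idempotents
  obtain ⟨s, hs⟩ := exists_decomp (A := ⊤ₐ) trivial heUU
  set cls := s.image (part ⊤ₐ s) with hcls
  have hrep : ∀ i : cls, ∃ a, a ∈ s ∧ part ⊤ₐ s a = (i : Finset _) := fun i => by
    obtain ⟨a, ha, he⟩ := Finset.mem_image.1 i.2
    exact ⟨a, ha, he⟩
  choose rep hrs hrp using hrep
  have hrepU : ∀ i, eU * rep i = rep i := fun i => (hs.mul_mem_eq (hrs i)).1
  have hclass : ∀ b, Prim ⊤ₐ b → eU * b = b → ∃ i : cls,
      ∀ f : H → ℂ, Cfsg.IsClassFunction H f → T M f 1 b = T M f 1 (rep i) := by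
    intro b hb hbU
    obtain ⟨a, ha, hba⟩ := exists_eqv_mem hs hb hbU
    refine ⟨⟨part ⊤ₐ s a, Finset.mem_image_of_mem _ ha⟩, fun f hf => ?_⟩
    set i : cls := ⟨part ⊤ₐ s a, Finset.mem_image_of_mem _ ha⟩
    have hra : Eqv ⊤ₐ (rep i) a :=
      (mem_part.1 (show a ∈ part ⊤ₐ s (rep i) by
        rw [hrp i]; exact mem_part.2 ⟨ha, Eqv.refl (hs.1 a ha)⟩)).2
    obtain ⟨x, -, y, -, hxy, hyx⟩ :=
      hba.trans hra.symm hb.2.1 (hs.1 _ (hrs i)).2.1
    exact T_equiv hf hb.2.1 (hs.1 _ (hrs i)).2.1 hxy hyx
      (CfsgLib.BlockPairs.conjA_one_left x) (CfsgLib.BlockPairs.conjA_one_left y)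
  -- test functions
  have hphi : ∀ i : cls, ∃ φ : GA (Res M) H →ₗ[Res M] Res M,
      (∀ x y, φ (x * y) = φ (y * x)) ∧ φ (rep i) = 1 ∧ ∀ l, l ≠ i → φ (rep l) = 0 := by
    intro i
    obtain ⟨φ, h1, -, h3, h4⟩ := CfsgLib.BlocksLocal.exists_trace hcU hs (hrs i)
    refine ⟨φ, h1, h3, fun l hl => h4 _ (hrs l) fun he => hl (Subtype.ext ?_)⟩
    rw [← hrp l, ← hrp i, part_congr hs (hs.1 _ (hrs i)).2.1 (hs.1 _ (hrs l)).2.1 he]
  choose φ hφc hφ1 hφ0 using hphi
  choose sec hsec using CfsgLib.Blocks.red_surjective (M := M)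
  choose E hE hEz using fun i => exists_lift (M := M) (rep i) (hs.1 _ (hrs i)).2.1
  have hEr : ∀ i, rho M H (E i) = rep i := fun i =>
    (hEz i 1 (CfsgLib.BlockPairs.conjA_one_left _)).2
  let fO : cls → H → localRing M := fun l g => sec (φ l (single g 1))
  let f : cls → H → ℂ := fun l g => (fO l g : ℂ)
  have hfc : ∀ l, Cfsg.IsClassFunction H (f l) := by
    intro l g h
    show ((sec (φ l (single (h * g * h⁻¹) 1)) : localRing M) : ℂ) = (sec (φ l (single g 1)) : ℂ)
    rw [show single (h * g * h⁻¹) (1 : Res M) = single h 1 * single g 1 * single h⁻¹ 1 by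
      simp [single_mul_single], hφc, ← mul_assoc, single_mul_single, inv_mul_cancel, one_mul,
      ← MonoidAlgebra.one_def, one_mul]
  let AO : Matrix cls cls (localRing M) := fun i l => ∑ g, (E i).coeff g * fO l g
  have hdet : IsUnit AO.det := by
    rw [← CfsgLib.Blocks.red_ne_zero_iff, RingHom.map_det]
    have : (red M).mapMatrix AO = 1 := by
      ext i l
      rw [RingHom.mapMatrix_apply, Matrix.map_apply]
      simp only [AO, map_sum, map_mul, fO, hsec, ← rho_coeff, hEr]
      have hv : ∑ g, (rep i).coeff g * φ l (single g 1) = φ l (rep i) := by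
        have he : rep i = ∑ g, single g ((rep i).coeff g) := CfsgLib.BlockPairs.ga_ext fun x => by
          rw [MonoidAlgebra.coeff_sum, Finset.sum_apply', Finset.sum_eq_single x
            (fun b _ hb => by rw [MonoidAlgebra.coeff_single, Finsupp.single_eq_of_ne (Ne.symm hb)])
            (by simp), MonoidAlgebra.coeff_single, Finsupp.single_eq_same]
        conv_rhs => rw [he, map_sum]
        refine Finset.sum_congr rfl fun g _ => ?_
        rw [← smul_eq_mul, ← map_smul, MonoidAlgebra.smul_single', mul_one]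
      rw [hv]
      by_cases h : i = l
      · subst h; rw [hφ1, Matrix.one_apply_eq]
      · rw [hφ0 l i h, Matrix.one_apply_ne h]
    rw [this, Matrix.det_one]
    exact one_ne_zero
  let A : Matrix cls cls ℂ := (localRing M).subtype.mapMatrix AO
  have hAdet : IsUnit A.det := by
    rw [← RingHom.map_det]; exact hdet.map _
  have hA : ∀ i l, T M (f l) 1 (rep i) = A i l := fun i l => by
    rw [T_eq_sum (hfc l) (hE i) (hEr i)]
    show _ = ((AO i l : localRing M) : ℂ)
    simp [AO, f]
  let F : cls → H → ℂ := fun i g => ∑ l, A⁻¹ l i * f l g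
  have hFc : ∀ i, Cfsg.IsClassFunction H (F i) := fun i =>
    isClassFunction_linear _ _ _ fun l _ => hfc l
  have hdual : ∀ j i, T M (F i) 1 (rep j) = if j = i then 1 else 0 := by
    intro j i
    rw [T_linear _ _ _ (fun l _ => hfc l) (hs.1 _ (hrs j)).2.1]
    have h1 := congrFun (congrFun (Matrix.mul_nonsing_inv A hAdet) j) i
    rw [Matrix.mul_apply, Matrix.one_apply] at h1
    rw [← h1]
    exact Finset.sum_congr rfl fun l _ => by rw [hA, mul_comm]
  -- the expansion at the regular elements
  have hpη : ∀ η ∈ U, proj U (η : H → ℂ) = (η : H → ℂ) := by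
    intro η hη
    funext y
    rw [proj, Finset.sum_eq_single η (fun ψ _ hne => by
        rw [Characters.classInner_irr, if_neg (Ne.symm hne), zero_mul])
        (fun h => absurd (mem_members.2 hη) h),
      Characters.classInner_irr, if_pos rfl, one_mul]
  have hexpand : ∀ η ∈ U, ∀ y, ¬ p ∣ orderOf y →
      (η : H → ℂ) y = ∑ i, T M (η : H → ℂ) 1 (rep i) * proj U (F i) y := by
    intro η hη y hy
    let d : Option cls → H → ℂ := fun o => o.elim (η : H → ℂ) F
    let w : Option cls → ℂ := fun o => o.elim 1 fun i => -T M (η : H → ℂ) 1 (rep i)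
    have hdc : ∀ o ∈ (Finset.univ : Finset (Option cls)), Cfsg.IsClassFunction H (d o) := by
      rintro (_ | i) -
      · exact Characters.isClassFunction_of_isIrr η.2
      · exact hFc i
    have h0 := proj_eq_zero hU hM (isClassFunction_linear Finset.univ w d hdc) (fun b hb hbU => by
      obtain ⟨i, hi⟩ := hclass b hb hbU
      rw [hi _ (isClassFunction_linear _ _ _ hdc), T_linear _ _ _ hdc (hs.1 _ (hrs i)).2.1,
        Fintype.sum_option]
      simp [d, w, hdual, Finset.sum_ite_eq]) hy
    rw [proj, Finset.sum_congr (s₁ := members U) (f := fun ψ : IrrCharacter H =>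
      Cfsg.classInner (fun g => ∑ o, w o * d o g) (ψ : H → ℂ) * (ψ : H → ℂ) y) rfl
      (g := fun ψ => ∑ o, w o *
      (Cfsg.classInner (d o) (ψ : H → ℂ) * (ψ : H → ℂ) y)) (fun ψ _ => by
        rw [classInner_linear, Finset.sum_mul]
        exact Finset.sum_congr rfl fun o _ => mul_assoc _ _ _), Finset.sum_comm] at h0
    simp only [← Finset.mul_sum] at h0
    rw [Fintype.sum_option] at h0
    have h1 := congrFun (hpη η hη) y
    simp only [d, w, Option.elim, one_mul, neg_mul, Finset.sum_neg_distrib] at h0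
    rw [proj] at h1
    rw [h1] at h0
    exact add_neg_eq_zero.1 h0
  have hreg : ∀ η ∈ U, ∀ ψ : H → ℂ, regInner p (η : H → ℂ) ψ =
      ∑ i, T M (η : H → ℂ) 1 (rep i) * regInner p (proj U (F i)) ψ := by
    intro η hη ψ
    simp only [regInner, Finset.mul_sum]
    rw [Finset.sum_comm]
    refine Finset.sum_congr rfl fun g _ => ?_
    by_cases hg : p ∣ orderOf g
    · simp [hg]
    · simp only [if_neg hg]
      rw [hexpand η hη g hg, Finset.sum_mul, Finset.mul_sum]
      exact Finset.sum_congr rfl fun i _ => by ring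
  -- the permutation
  have hperm : ∀ i : cls, ∃ j : cls, ∀ g : H → ℂ, Cfsg.IsClassFunction H g →
      T M (fun y => g (α y)) 1 (rep i) = T M g 1 (rep j) := by
    intro i
    have hP : Prim ⊤ₐ (σ (rep i)) := (hs.1 _ (hrs i)).map (σ := σ) fun _ => ⟨fun _ => trivial, fun _ => trivial⟩
    obtain ⟨j, hj⟩ := hclass _ hP (by rw [← hσe, ← map_mul, hrepU])
    refine ⟨j, fun g hg => ?_⟩
    rw [← hj g hg, T_eq_sum (f := fun y => g (α y))
      (fun a b => by simp only [map_mul, map_inv]; exact hg _ _) (hE i) (hEr i),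
      T_eq_sum hg (E := σO (E i)) (by rw [← map_mul, hE i]) (by rw [hσρ, hEr])]
    exact Fintype.sum_equiv α.toEquiv _ _ fun y => by simp [σO]
  choose π hπ using hperm
  refine ⟨(Finset.univ.filter fun i => π i = i).card, ?_⟩
  have hsum : ∀ i, ∑ ξ : IrrCharacter H, (if ξ ∈ U then
      regInner p (proj U (F i)) ξ * T M (ξ : H → ℂ) 1 (rep (π i)) else 0) =
      if π i = i then 1 else 0 := by
    intro i
    let w : IrrCharacter H → ℂ := fun ξ => if ξ ∈ U then regInner p (proj U (F i)) ξ else 0
    have hdc : ∀ ξ ∈ (Finset.univ : Finset (IrrCharacter H)),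
        Cfsg.IsClassFunction H (ξ : H → ℂ) := fun ξ _ => Characters.isClassFunction_of_isIrr ξ.2
    have h1 : T M (fun y => ∑ ξ, w ξ * (ξ : H → ℂ) y) 1 (rep (π i)) =
        T M (proj U (F i)) 1 (rep (π i)) := by
      refine T_congr_regular hM (isClassFunction_linear _ _ _ hdc) (isClassFunction_proj _)
        (fun y hy => ?_) (hs.1 _ (hrs _)).2.1
      have h2 := sum_union_regInner_mul hM hU (isClassFunction_proj (U := U) (F i)) hy
      simp only [w, ite_mul, zero_mul]
      rw [h2]
      have h3 : ∀ ξ : IrrCharacter H, ξ ∈ U → Cfsg.classInner (proj U (F i)) (ξ : H → ℂ) =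
          Cfsg.classInner (F i) (ξ : H → ℂ) := by
        intro ξ hξ
        rw [show proj U (F i) = fun y => ∑ η ∈ members U,
          Cfsg.classInner (F i) (η : H → ℂ) * (η : H → ℂ) y from rfl, classInner_linear,
          Finset.sum_eq_single ξ (fun ψ _ hne => by
            rw [Characters.classInner_irr, if_neg hne, mul_zero])
            (fun h => absurd (mem_members.2 hξ) h), Characters.classInner_irr, if_pos rfl,
          mul_one]
      rw [proj, ← Finset.sum_filter]
      refine Finset.sum_congr (by ext; simp [mem_members]) fun ξ hξ => ?_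
      rw [h3 ξ (mem_members.1 hξ)]
    rw [T_linear _ _ _ hdc (hs.1 _ (hrs _)).2.1, T_proj hU (hFc i) (hs.1 _ (hrs _)).2.1 (hrepU _),
      hdual] at h1
    rw [← h1]
    exact Finset.sum_congr rfl fun ξ _ => by simp only [w, ite_mul, zero_mul]
  rw [Finset.natCast_card_filter, ← Finset.sum_congr rfl fun i _ => hsum i, Finset.sum_comm]
  refine Finset.sum_congr rfl fun ξ _ => ?_
  split_ifs with hξ
  · rw [show (fun y => (ξ : H → ℂ) (α y)) = (CfsgLib.BlockPairs.irrComp α ξ : H → ℂ) from rfl,
      hreg _ (hα ξ hξ)]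
    refine Finset.sum_congr rfl fun i _ => ?_
    rw [← hπ i _ (Characters.isClassFunction_of_isIrr ξ.2), mul_comm]
    rfl
  · simp

end CfsgLib.BlocksRational
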